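import Cfsg.Agent.Lib.Mult.Fi22.CvD

set_option autoImplicit false
set_option maxRecDepth 100000
set_option Elab.async false

namespace Cfsg.Agent.Mult.Fi22

open Cfsg.Agent.CG Cfsg.Agent.CG.Fi22

theorem cvc0 : cv0.chk tcR 0 945 = true := by decide +kernel
theorem cvc1 : cv0.chk tcR 945 107 = true := by decide +kernel
theorem cvc2 : cv0.chk tcR 1052 96 = true := by decide +kernel
theorem cvc3 : cv0.chk tcR 1148 95 = true := by decide +kernel
theorem cvc4 : cv0.chk tcR 1243 60 = true := by decide +kernel
theorem cvc5 : cv0.chk tcR 1303 137 = true := by decide +kernel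
theorem cvc6 : cv0.chk tcR 1440 62 = true := by decide +kernel
theorem cvc7 : cv0.chk tcR 1502 130 = true := by decide +kernel
theorem cvc8 : cv0.chk tcR 1632 66 = true := by decide +kernel
theorem cvc9 : cv0.chk tcR 1698 27 = true := by decide +kernel
theorem cvc10 : cv0.chkP cvP [1,0] = true := by decide +kernel
theorem cvc11 : cv1.chk tcR 0 486 = true := by decide +kernel
theorem cvc12 : cv1.chk tcR 486 409 = true := by decide +kernel
theorem cvc13 : cv1.chk tcR 895 68 = true := by decide +kernel
theorem cvc14 : cv1.chk tcR 963 70 = true := by decide +kernel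
theorem cvc15 : cv1.chk tcR 1033 21 = true := by decide +kernel
theorem cvc16 : cv1.chk tcR 1054 30 = true := by decide +kernel
theorem cvc17 : cv1.chk tcR 1084 25 = true := by decide +kernel
theorem cvc18 : cv1.chk tcR 1109 15 = true := by decide +kernel
theorem cvc19 : cv1.chk tcR 1124 12 = true := by decide +kernel
theorem cvc20 : cv1.chk tcR 1136 10 = true := by decide +kernel
theorem cvc21 : cv1.chk tcR 1146 30 = true := by decide +kernel
theorem cvc22 : cv1.chk tcR 1176 24 = true := by decide +kernel
theorem cvc23 : cv1.chk tcR 1200 14 = true := by decide +kernel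
theorem cvc24 : cv1.chk tcR 1214 12 = true := by decide +kernel
theorem cvc25 : cv1.chk tcR 1226 10 = true := by decide +kernel
theorem cvc26 : cv1.chk tcR 1236 10 = true := by decide +kernel
theorem cvc27 : cv1.chk tcR 1246 9 = true := by decide +kernel
theorem cvc28 : cv1.chk tcR 1255 9 = true := by decide +kernel
theorem cvc29 : cv1.chk tcR 1264 9 = true := by decide +kernel
theorem cvc30 : cv1.chk tcR 1273 8 = true := by decide +kernel
theorem cvc31 : cv1.chk tcR 1281 6 = true := by decide +kernel
theorem cvc32 : cv1.chk tcR 1287 6 = true := by decide +kernel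
theorem cvc33 : cv1.chk tcR 1293 6 = true := by decide +kernel
theorem cvc34 : cv1.chk tcR 1299 6 = true := by decide +kernel
theorem cvc35 : cv1.chk tcR 1305 6 = true := by decide +kernel
theorem cvc36 : cv1.chk tcR 1311 32 = true := by decide +kernel
theorem cvc37 : cv1.chk tcR 1343 31 = true := by decide +kernel
theorem cvc38 : cv1.chk tcR 1374 18 = true := by decide +kernel
theorem cvc39 : cv1.chk tcR 1392 18 = true := by decide +kernel
theorem cvc40 : cv1.chk tcR 1410 16 = true := by decide +kernel
theorem cvc41 : cv1.chk tcR 1426 12 = true := by decide +kernel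
theorem cvc42 : cv1.chk tcR 1438 12 = true := by decide +kernel
theorem cvc43 : cv1.chk tcR 1450 11 = true := by decide +kernel
theorem cvc44 : cv1.chk tcR 1461 10 = true := by decide +kernel
theorem cvc45 : cv1.chk tcR 1471 9 = true := by decide +kernel
theorem cvc46 : cv1.chk tcR 1480 9 = true := by decide +kernel
theorem cvc47 : cv1.chk tcR 1489 9 = true := by decide +kernel
theorem cvc48 : cv1.chk tcR 1498 9 = true := by decide +kernel
theorem cvc49 : cv1.chk tcR 1507 9 = true := by decide +kernel
theorem cvc50 : cv1.chk tcR 1516 9 = true := by decide +kernel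
theorem cvc51 : cv1.chk tcR 1525 8 = true := by decide +kernel
theorem cvc52 : cv1.chk tcR 1533 7 = true := by decide +kernel
theorem cvc53 : cv1.chk tcR 1540 7 = true := by decide +kernel
theorem cvc54 : cv1.chk tcR 1547 7 = true := by decide +kernel
theorem cvc55 : cv1.chk tcR 1554 7 = true := by decide +kernel
theorem cvc56 : cv1.chk tcR 1561 7 = true := by decide +kernel
theorem cvc57 : cv1.chk tcR 1568 7 = true := by decide +kernel
theorem cvc58 : cv1.chk tcR 1575 7 = true := by decide +kernel
theorem cvc59 : cv1.chk tcR 1582 37 = true := by decide +kernel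
theorem cvc60 : cv1.chk tcR 1619 31 = true := by decide +kernel
theorem cvc61 : cv1.chk tcR 1650 20 = true := by decide +kernel
theorem cvc62 : cv1.chk tcR 1670 18 = true := by decide +kernel
theorem cvc63 : cv1.chk tcR 1688 18 = true := by decide +kernel
theorem cvc64 : cv1.chk tcR 1706 17 = true := by decide +kernel
theorem cvc65 : cv1.chk tcR 1723 13 = true := by decide +kernel
theorem cvc66 : cv1.chk tcR 1736 11 = true := by decide +kernel
theorem cvc67 : cv1.chk tcR 1747 10 = true := by decide +kernel
theorem cvc68 : cv1.chk tcR 1757 9 = true := by decide +kernel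
theorem cvc69 : cv1.chk tcR 1766 9 = true := by decide +kernel
theorem cvc70 : cv1.chk tcR 1775 8 = true := by decide +kernel
theorem cvc71 : cv1.chk tcR 1783 6 = true := by decide +kernel
theorem cvc72 : cv1.chk tcR 1789 6 = true := by decide +kernel
theorem cvc73 : cv1.chk tcR 1795 6 = true := by decide +kernel
theorem cvc74 : cv1.chk tcR 1801 5 = true := by decide +kernel
theorem cvc75 : cv1.chk tcR 1806 5 = true := by decide +kernel
theorem cvc76 : cv1.chk tcR 1811 5 = true := by decide +kernel
theorem cvc77 : cv1.chk tcR 1816 34 = true := by decide +kernel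
theorem cvc78 : cv1.chk tcR 1850 37 = true := by decide +kernel
theorem cvc79 : cv1.chk tcR 1887 26 = true := by decide +kernel
theorem cvc80 : cv1.chk tcR 1913 19 = true := by decide +kernel
theorem cvc81 : cv1.chk tcR 1932 12 = true := by decide +kernel
theorem cvc82 : cv1.chk tcR 1944 12 = true := by decide +kernel
theorem cvc83 : cv1.chk tcR 1956 12 = true := by decide +kernel
theorem cvc84 : cv1.chk tcR 1968 12 = true := by decide +kernel
theorem cvc85 : cv1.chk tcR 1980 9 = true := by decide +kernel
theorem cvc86 : cv1.chk tcR 1989 9 = true := by decide +kernel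
theorem cvc87 : cv1.chk tcR 1998 9 = true := by decide +kernel
theorem cvc88 : cv1.chk tcR 2007 9 = true := by decide +kernel
theorem cvc89 : cv1.chk tcR 2016 7 = true := by decide +kernel
theorem cvc90 : cv1.chk tcR 2023 7 = true := by decide +kernel
theorem cvc91 : cv1.chk tcR 2030 6 = true := by decide +kernel
theorem cvc92 : cv1.chk tcR 2036 5 = true := by decide +kernel
theorem cvc93 : cv1.chk tcR 2041 5 = true := by decide +kernel
theorem cvc94 : cv1.chk tcR 2046 5 = true := by decide +kernel
theorem cvc95 : cv1.chk tcR 2051 5 = true := by decide +kernel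
theorem cvc96 : cv1.chk tcR 2056 5 = true := by decide +kernel
theorem cvc97 : cv1.chk tcR 2061 5 = true := by decide +kernel
theorem cvc98 : cv1.chk tcR 2066 4 = true := by decide +kernel
theorem cvc99 : cv1.chkP cvP [0,1] = true := by decide +kernel
theorem cvc100 : chkPairs app bs tcS cvP = true := by decide +kernel

end Cfsg.Agent.Mult.Fi22
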